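import Cfsg.Agent.H634.SdDef
import Cfsg.Agent.H612.MinNormal
import Cfsg.Agent.SylowL.CompFacts

/-!
# S4579, R6: a simple component with a non-real linear character (helper481)

`exists_comp` : if `f` is a linear character of the Sylow 2-subgroup `P` which is not real on `P ∩ N`, `N` a nonabelian
minimal normal subgroup, then `f` is not real on `P ∩ S` for a simple component `S` of `N`.
-/

set_option autoImplicit false

open Cfsg

namespace Cfsg.Agent.H481.Sd

open Subgroup

universe u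

variable {G : Type u} [Group G]

/-- `S` is a direct factor of `N` with trivial centre (elementwise) -/
structure DF (N S : Subgroup G) : Prop where
  le : S ≤ N
  norm : ∀ n ∈ N, ∀ s ∈ S, n * s * n⁻¹ ∈ S
  ctr : ∀ z ∈ S, (∀ y ∈ S, z * y = y * z) → z = 1
  dec : ∀ n ∈ N, ∃ s ∈ S, ∀ y ∈ S, s⁻¹ * n * y = y * (s⁻¹ * n)

theorem mem_cj {g x : G} {S : Subgroup G} : x ∈ S.map (MulAut.conj g).toMonoidHom ↔ g⁻¹ * x * g ∈ S := by
  constructor
  · rintro ⟨y, hy, rfl⟩
    have h1 : g⁻¹ * (MulAut.conj g).toMonoidHom y * g = y := by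
      show g⁻¹ * (g * y * g⁻¹) * g = y
      group
    rw [h1]
    exact hy
  · intro h
    refine ⟨g⁻¹ * x * g, h, ?_⟩
    show g * (g⁻¹ * x * g) * g⁻¹ = x
    group

theorem DF.of {N S : Subgroup G} (hle : S ≤ N) (hn : N ≤ normalizer (S : Set G)) [hs : IsSimpleGroup S]
    (hna : ¬ IsMulCommutative S) (hsup : N ≤ S ⊔ centralizer (S : Set G)) : DF N S where
  le := hle
  norm := fun n hn' s hs' => (mem_normalizer_iff.1 (hn hn') s).1 hs'
  ctr := by
    intro z hz hc
    have h1 : (⟨z, hz⟩ : S) ∈ center S := mem_center_iff.2 fun y => Subtype.ext (hc y y.2).symm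
    rcases Subgroup.Normal.eq_bot_or_eq_top (inferInstance : (center S).Normal) with h2 | h2
    · rw [h2, mem_bot] at h1
      exact congrArg Subtype.val h1
    · exfalso
      apply hna
      refine ⟨⟨fun a b => ?_⟩⟩
      have h3 : a ∈ center S := by rw [h2]; trivial
      exact (mem_center_iff.1 h3 b).symm
  dec := by
    intro n hn'
    have h1 := hsup hn'
    let H : Subgroup G :=
      { carrier := {x | ∃ s ∈ S, ∀ y ∈ S, s⁻¹ * x * y = y * (s⁻¹ * x)}
        one_mem' := ⟨1, one_mem _, fun y _ => by simp⟩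
        mul_mem' := by
          rintro a b ⟨s, hs1, h2⟩ ⟨t, ht1, h3⟩
          refine ⟨s * t, mul_mem hs1 ht1, fun y hy => ?_⟩
          have h4 : (s * t)⁻¹ * (a * b) = (s⁻¹ * a) * (t⁻¹ * b) := by
            have h5 := h2 t⁻¹ (inv_mem ht1)
            calc (s * t)⁻¹ * (a * b) = t⁻¹ * (s⁻¹ * a) * b := by group
              _ = (s⁻¹ * a) * t⁻¹ * b := by rw [h5]
              _ = _ := by group
          rw [h4, mul_assoc, h3 y hy, ← mul_assoc, h2 y hy, mul_assoc]
        inv_mem' := by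
          rintro a ⟨s, hs1, h2⟩
          refine ⟨s⁻¹, inv_mem hs1, fun y hy => ?_⟩
          -- `s a⁻¹ = ` conjugate of `(s⁻¹ a)⁻¹ = a⁻¹ s`
          have h5 : s * a⁻¹ = a⁻¹ * s := by
            have h6 := h2 s hs1
            have h7 : s⁻¹ * a * s = a := by rw [h6]; group
            have h8 : a * s = s * a := by
              calc a * s = s * (s⁻¹ * a * s) := by group
                _ = s * a := by rw [h7]
            calc s * a⁻¹ = a⁻¹ * (a * s) * a⁻¹ := by group
              _ = a⁻¹ * (s * a) * a⁻¹ := by rw [h8]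
              _ = a⁻¹ * s := by group
          have h6 := h2 y hy
          rw [inv_inv, h5]
          calc a⁻¹ * s * y = (s⁻¹ * a)⁻¹ * (y * (s⁻¹ * a)) * (s⁻¹ * a)⁻¹ := by group
            _ = (s⁻¹ * a)⁻¹ * (s⁻¹ * a * y) * (s⁻¹ * a)⁻¹ := by rw [h6]
            _ = y * (a⁻¹ * s) := by group }
    have h2 : S ⊔ centralizer (S : Set G) ≤ H := by
      refine sup_le ?_ ?_
      · intro s hs'
        exact ⟨s, hs', fun y _ => by simp⟩
      · intro c hc
        refine ⟨1, one_mem _, fun y hy => ?_⟩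
        rw [inv_one, one_mul]
        exact (mem_centralizer_iff.1 hc y hy).symm
    exact h2 h1

/-- conjugates -/
theorem DF.cj {N S : Subgroup G} [hN : N.Normal] (h : DF N S) (g : G) : DF N (S.map (MulAut.conj g).toMonoidHom) where
  le := by
    intro x hx
    have h1 := hN.conj_mem _ (h.le (mem_cj.1 hx)) g
    have h2 : g * (g⁻¹ * x * g) * g⁻¹ = x := by group
    rwa [h2] at h1
  norm := by
    intro n hn s hs
    rw [mem_cj] at hs ⊢
    have h1 : g⁻¹ * n * g ∈ N := by
      have := hN.conj_mem n hn g⁻¹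
      rwa [inv_inv] at this
    have h2 := h.norm _ h1 _ hs
    have h3 : g⁻¹ * n * g * (g⁻¹ * s * g) * (g⁻¹ * n * g)⁻¹ = g⁻¹ * (n * s * n⁻¹) * g := by group
    rwa [h3] at h2
  ctr := by
    intro z hz hc
    rw [mem_cj] at hz
    have h1 := h.ctr _ hz (fun y hy => by
      have h2 := hc (g * y * g⁻¹) (mem_cj.2 (by
        have h3 : g⁻¹ * (g * y * g⁻¹) * g = y := by group
        rw [h3]; exact hy))
      calc g⁻¹ * z * g * y = g⁻¹ * (z * (g * y * g⁻¹)) * g := by group
        _ = g⁻¹ * ((g * y * g⁻¹) * z) * g := by rw [h2]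
        _ = y * (g⁻¹ * z * g) := by group)
    calc z = g * (g⁻¹ * z * g) * g⁻¹ := by group
      _ = 1 := by rw [h1]; group
  dec := by
    intro n hn
    have h1 : g⁻¹ * n * g ∈ N := by
      have := hN.conj_mem n hn g⁻¹
      rwa [inv_inv] at this
    obtain ⟨s, hs, hs'⟩ := h.dec _ h1
    refine ⟨g * s * g⁻¹, mem_cj.2 (by
      have h3 : g⁻¹ * (g * s * g⁻¹) * g = s := by group
      rw [h3]; exact hs), fun y hy => ?_⟩
    have h2 := hs' _ (mem_cj.1 hy)
    calc (g * s * g⁻¹)⁻¹ * n * y = g * (s⁻¹ * (g⁻¹ * n * g) * (g⁻¹ * y * g)) * g⁻¹ := by group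
      _ = g * ((g⁻¹ * y * g) * (s⁻¹ * (g⁻¹ * n * g))) * g⁻¹ := by rw [h2]
      _ = _ := by group

theorem DF.isSubnormal {N S : Subgroup G} [hN : N.Normal] (h : DF N S) : S.IsSubnormal := by
  refine IsSubnormal.step S N h.le hN.isSubnormal ⟨fun s hs n => ?_⟩
  exact h.norm n n.2 s hs

variable [Finite G]

/-- the projection of `P ∩ N` to the factor `S` is in `P` -/
theorem DF.proj {N S : Subgroup G} [hN : N.Normal] (h : DF N S) (P : Sylow 2 G) {c : G}
    (hc : c ∈ N) (hcP : c ∈ (P : Subgroup G)) :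
    ∃ s ∈ S, s ∈ (P : Subgroup G) ∧ ∀ y ∈ S, s⁻¹ * c * y = y * (s⁻¹ * c) := by
  obtain ⟨Q, hQ⟩ := Cfsg.Agent.SylowL.CompFacts.exists_sylow P h.isSubnormal
  -- the projection of `P ∩ N`
  let R : Subgroup S :=
    { carrier := {s | ∃ x : G, x ∈ N ∧ x ∈ (P : Subgroup G) ∧ ∀ y ∈ S, (s : G)⁻¹ * x * y = y * ((s : G)⁻¹ * x)}
      one_mem' := ⟨1, one_mem _, one_mem _, fun y _ => by simp⟩
      mul_mem' := by
        rintro a b ⟨x, hx1, hx2, hx3⟩ ⟨y, hy1, hy2, hy3⟩
        refine ⟨x * y, mul_mem hx1 hy1, mul_mem hx2 hy2, fun z hz => ?_⟩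
        have h4 : ((a * b : S) : G)⁻¹ * (x * y) = ((a : G)⁻¹ * x) * ((b : G)⁻¹ * y) := by
          have h5 := hx3 (b : G)⁻¹ (inv_mem b.2)
          rw [Subgroup.coe_mul]
          calc ((a : G) * b)⁻¹ * (x * y) = (b : G)⁻¹ * ((a : G)⁻¹ * x) * y := by group
            _ = ((a : G)⁻¹ * x) * (b : G)⁻¹ * y := by rw [h5]
            _ = _ := by group
        rw [h4, mul_assoc, hy3 z hz, ← mul_assoc, hx3 z hz, mul_assoc]
      inv_mem' := by
        rintro a ⟨x, hx1, hx2, hx3⟩
        refine ⟨x⁻¹, inv_mem hx1, inv_mem hx2, fun y hy => ?_⟩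
        have h5 : (a : G) * x⁻¹ = x⁻¹ * a := by
          have h6 := hx3 a a.2
          have h7 : (a : G)⁻¹ * x * a = x := by rw [h6]; group
          have h8 : x * (a : G) = a * x := by
            calc x * (a : G) = a * ((a : G)⁻¹ * x * a) := by group
              _ = a * x := by rw [h7]
          calc (a : G) * x⁻¹ = x⁻¹ * (x * a) * x⁻¹ := by group
            _ = x⁻¹ * (a * x) * x⁻¹ := by rw [h8]
            _ = x⁻¹ * a := by group
        have h6 := hx3 y hy
        rw [Subgroup.coe_inv, inv_inv, h5]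
        calc x⁻¹ * a * y = ((a : G)⁻¹ * x)⁻¹ * (y * ((a : G)⁻¹ * x)) * ((a : G)⁻¹ * x)⁻¹ := by group
          _ = ((a : G)⁻¹ * x)⁻¹ * ((a : G)⁻¹ * x * y) * ((a : G)⁻¹ * x)⁻¹ := by rw [h6]
          _ = y * (x⁻¹ * a) := by group }
  have hR : IsPGroup 2 R := by
    rintro ⟨s, x, hx1, hx2, hx3⟩
    obtain ⟨n, hn⟩ := P.2 ⟨x, hx2⟩
    refine ⟨n, ?_⟩
    have hxn : x ^ 2 ^ n = 1 := congrArg Subtype.val hn
    have hcomm : Commute (s : G) x := by
      have h6 := hx3 s s.2
      have h7 : (s : G)⁻¹ * x * s = x := by rw [h6]; group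
      show (s : G) * x = x * s
      calc (s : G) * x = s * ((s : G)⁻¹ * x * s) := by rw [h7]
        _ = x * s := by group
    have h1 : (s : G) ^ 2 ^ n = 1 := by
      apply h.ctr _ (pow_mem s.2 _)
      intro y hy
      have h2 : Commute ((s : G)⁻¹ * x) y := hx3 y hy
      have h3 := h2.pow_left (2 ^ n)
      rw [(hcomm.inv_left).mul_pow, hxn, mul_one, inv_pow] at h3
      exact Commute.inv_left_iff.1 h3
    exact Subtype.ext (Subtype.ext h1)
  have hQR : (Q : Subgroup S) ≤ R := by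
    intro s hs
    rw [hQ, mem_subgroupOf] at hs
    exact ⟨s, h.le s.2, hs, fun y _ => by simp⟩
  have hRQ := Q.3 hR hQR
  obtain ⟨s, hs, hs'⟩ := h.dec c hc
  have h1 : (⟨s, hs⟩ : S) ∈ R := ⟨c, hc, hcP, hs'⟩
  have h2 : (⟨s, hs⟩ : S) ∈ (Q : Subgroup S) := hRQ ▸ h1
  rw [hQ, mem_subgroupOf] at h2
  exact ⟨s, hs, h2, hs'⟩

/-- **R6** -/
theorem exists_comp [Fact (Nat.Prime 2)] (N : Subgroup G) [hN : N.Normal] (hN1 : N ≠ ⊥)
    (hmin : ∀ K : Subgroup G, K.Normal → K ≤ N → K = ⊥ ∨ K = N)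
    (hna : ¬ ∀ a ∈ N, ∀ b ∈ N, a * b = b * a) (P : Sylow 2 G) (f : (P : Subgroup G) →* ℂˣ)
    (hx : ∃ x : (P : Subgroup G), (x : G) ∈ N ∧ f x ^ 2 ≠ 1) :
    ∃ S : Subgroup G, S ≤ N ∧ N ≤ Subgroup.normalizer (S : Set G) ∧ IsSimpleGroup S ∧
      ¬ IsMulCommutative S ∧ N ≤ S ⊔ Subgroup.centralizer (S : Set G) ∧
      (∀ g : G, S.map (MulAut.conj g).toMonoidHom = S ∨
        S.map (MulAut.conj g).toMonoidHom ≤ Subgroup.centralizer (S : Set G)) ∧
      (∃ Q : Sylow 2 S, ∀ s : S, s ∈ Q ↔ (s : G) ∈ (P : Subgroup G)) ∧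
      ∃ x : (P : Subgroup G), (x : G) ∈ S ∧ f x ^ 2 ≠ 1 := by
  obtain ⟨S, hSN, hNS, hsim, hna', hsup, hconj⟩ := Cfsg.Agent.H612.MinNormal.exists_factor N hN1 hmin hna
  have hD : DF N S := DF.of hSN hNS hna' hsup
  have hconj' : ∀ g : G, S.map (MulAut.conj g).toMonoidHom = S ∨
      S.map (MulAut.conj g).toMonoidHom ≤ Subgroup.centralizer (S : Set G) := hconj
  -- two conjugates
  have hcj : ∀ g h : G, S.map (MulAut.conj g).toMonoidHom = S.map (MulAut.conj h).toMonoidHom ∨
      ∀ x ∈ S.map (MulAut.conj g).toMonoidHom, ∀ y ∈ S.map (MulAut.conj h).toMonoidHom, x * y = y * x := by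
    intro g h
    rcases hconj' (h⁻¹ * g) with h1 | h1
    · left
      ext x
      have h2 : h⁻¹ * x * h ∈ S.map (MulAut.conj (h⁻¹ * g)).toMonoidHom ↔ h⁻¹ * x * h ∈ S := by rw [h1]
      rw [mem_cj] at h2
      rw [mem_cj, mem_cj, ← h2]
      have h3 : (h⁻¹ * g)⁻¹ * (h⁻¹ * x * h) * (h⁻¹ * g) = g⁻¹ * x * g := by group
      rw [h3]
    · right
      intro x hx' y hy'
      have h2 : h⁻¹ * x * h ∈ S.map (MulAut.conj (h⁻¹ * g)).toMonoidHom := by
        rw [mem_cj]
        have h3 : (h⁻¹ * g)⁻¹ * (h⁻¹ * x * h) * (h⁻¹ * g) = g⁻¹ * x * g := by group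
        rw [h3]
        exact mem_cj.1 hx'
      have h3 := mem_centralizer_iff.1 (h1 h2) _ (mem_cj.1 hy')
      calc x * y = h * ((h⁻¹ * x * h) * (h⁻¹ * y * h)) * h⁻¹ := by group
        _ = h * ((h⁻¹ * y * h) * (h⁻¹ * x * h)) * h⁻¹ := by rw [h3]
        _ = y * x := by group
  -- a conjugate on which `f ^ 2` is not trivial
  obtain ⟨g, x, hxg, hxf⟩ : ∃ (g : G) (x : (P : Subgroup G)), (x : G) ∈ S.map (MulAut.conj g).toMonoidHom ∧
      f x ^ 2 ≠ 1 := by
    by_contra hcon
    push Not at hcon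
    obtain ⟨q, hqN, hqf⟩ := hx
    apply hqf
    classical
    have key : ∀ F : Finset G, ∃ c : (P : Subgroup G), (c : G) ∈ N ∧ f c ^ 2 = f q ^ 2 ∧
        ∀ g ∈ F, ∀ y ∈ S.map (MulAut.conj g).toMonoidHom, (c : G) * y = y * c := by
      intro F
      induction F using Finset.induction_on with
      | empty => exact ⟨q, hqN, rfl, fun g hg => absurd hg (Finset.notMem_empty g)⟩
      | insert g F hg ih =>
        obtain ⟨c, hcN, hcf, hcF⟩ := ih
        obtain ⟨s, hs, hsP, hs'⟩ := (hD.cj g).proj P hcN c.2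
        refine ⟨⟨s, hsP⟩⁻¹ * c, ?_, ?_, ?_⟩
        · exact mul_mem (inv_mem ((hD.cj g).le hs)) hcN
        · rw [map_mul, map_inv, mul_pow, inv_pow, hcon g ⟨s, hsP⟩ hs, inv_one, one_mul, hcf]
        · intro h hh y hy
          rw [Subgroup.coe_mul, Subgroup.coe_inv]
          rcases hcj g h with h1 | h1
          · rw [← h1] at hy
            exact hs' y hy
          · rcases Finset.mem_insert.1 hh with rfl | hh
            · exact hs' y hy
            · have h2 : Commute s y := h1 s hs y hy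
              have h3 : Commute (c : G) y := hcF h hh y hy
              exact (h2.inv_left.mul_left h3).eq
    have := Fintype.ofFinite G
    obtain ⟨c, hcN, hcf, hcF⟩ := key Finset.univ
    -- `c` centralises `N`
    have hcl : ∀ y ∈ N, (c : G) * y = y * c := by
      have h1 : normalClosure (S : Set G) = N := by
        rcases hmin _ normalClosure_normal (normalClosure_le_normal hSN) with h2 | h2
        · exfalso
          apply hna'
          refine ⟨⟨fun a b => ?_⟩⟩
          have h3 : ∀ a : S, a = 1 := fun a => by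
            have h4 : (a : G) ∈ normalClosure (S : Set G) := subset_normalClosure a.2
            rw [h2, mem_bot] at h4
            exact Subtype.ext h4
          rw [h3 a, h3 b]
        · exact h2
      have h2 : normalClosure (S : Set G) ≤ centralizer {(c : G)} := by
        rw [normalClosure, closure_le]
        intro y hy
        obtain ⟨s, hs, hsy⟩ := Group.mem_conjugatesOfSet_iff.1 hy
        obtain ⟨g, hg⟩ := isConj_iff.1 hsy
        rw [SetLike.mem_coe, mem_centralizer_singleton_iff]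
        refine (hcF g (Finset.mem_univ g) y (mem_cj.2 ?_)).symm
        rw [← hg]
        have h3 : g⁻¹ * (g * s * g⁻¹) * g = s := by group
        rw [h3]
        exact hs
      rw [h1] at h2
      intro y hy
      exact (mem_centralizer_singleton_iff.1 (h2 hy)).symm
    have hc1 : (c : G) = 1 := by
      have h1 : (N ⊓ centralizer (N : Set G)).Normal := by infer_instance
      rcases hmin _ h1 inf_le_left with h2 | h2
      · have h3 : (c : G) ∈ N ⊓ centralizer (N : Set G) := ⟨hcN, mem_centralizer_iff.2 fun y hy => (hcl y hy).symm⟩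
        rw [h2, mem_bot] at h3
        exact h3
      · exfalso
        apply hna
        intro a ha b hb
        have h3 : a ∈ N ⊓ centralizer (N : Set G) := by rw [h2]; exact ha
        exact (mem_centralizer_iff.1 h3.2 b hb).symm
    have hc1' : c = 1 := Subtype.ext hc1
    rw [← hcf, hc1', map_one, one_pow]
  -- the conclusion for the conjugate
  have hD' : DF N (S.map (MulAut.conj g).toMonoidHom) := hD.cj g
  let e : S ≃* S.map (MulAut.conj g).toMonoidHom := S.equivMapOfInjective _ (MulAut.conj g).injective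
  refine ⟨S.map (MulAut.conj g).toMonoidHom, hD'.le, ?_, e.symm.isSimpleGroup, ?_, ?_, ?_, ?_, x, hxg, hxf⟩
  · intro n hn
    rw [mem_normalizer_iff]
    intro s
    constructor
    · intro hs
      exact hD'.norm n hn s hs
    · intro hs
      have h1 := hD'.norm n⁻¹ (inv_mem hn) _ hs
      have h2 : n⁻¹ * (n * s * n⁻¹) * n⁻¹⁻¹ = s := by group
      rwa [h2] at h1
  · intro hcm
    apply hna'
    refine ⟨⟨fun a b => ?_⟩⟩
    apply e.injective
    rw [map_mul, map_mul]
    exact hcm.is_comm.comm _ _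
  · intro n hn
    obtain ⟨s, hs, hs'⟩ := hD'.dec n hn
    have h1 : n = s * (s⁻¹ * n) := by group
    rw [h1]
    refine mul_mem (mem_sup_left hs) (mem_sup_right ?_)
    exact mem_centralizer_iff.2 fun y hy => (hs' y hy).symm
  · intro h
    have h1 : (S.map (MulAut.conj g).toMonoidHom).map (MulAut.conj h).toMonoidHom =
        S.map (MulAut.conj (h * g)).toMonoidHom := by
      ext y
      rw [mem_cj, mem_cj, mem_cj]
      have h2 : g⁻¹ * (h⁻¹ * y * h) * g = (h * g)⁻¹ * y * (h * g) := by group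
      rw [h2]
    rw [h1]
    rcases hcj (h * g) g with h2 | h2
    · left; exact h2
    · right
      intro y hy
      exact mem_centralizer_iff.2 fun z hz => (h2 y hy z hz).symm
  · obtain ⟨Q, hQ⟩ := Cfsg.Agent.SylowL.CompFacts.exists_sylow P hD'.isSubnormal
    refine ⟨Q, fun s => ?_⟩
    show s ∈ (Q : Subgroup _) ↔ _
    rw [hQ, mem_subgroupOf]

end Cfsg.Agent.H481.Sd
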